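import Cfsg.Agent.Lib.SLn.SylowTorus

set_option autoImplicit false

/-!
Generalised quaternion Sylow `2`-subgroups inside the normaliser of a cyclic subgroup.
-/

namespace Cfsg.Agent.Lib.SLn.QuatSylow

open Cfsg.Agent.Lib.SLn.SylowTorus

/-- A cyclic subgroup `T` with an inverting element `y` and the element `a` of order `2 ^ v`. -/
structure Data (G : Type*) [Group G] where
  T : Subgroup G
  cyc : IsCyclic T
  y : G
  inv : ∀ t ∈ T, y * t * y⁻¹ = t⁻¹
  yT : y ∉ T
  norm : ∀ g ∈ Subgroup.normalizer (T : Set G), g ∈ T ∨ y⁻¹ * g ∈ T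
  cent : ∀ d ∈ T, d * d ≠ 1 → Subgroup.centralizer ({d} : Set G) = T
  a : G
  aT : a ∈ T
  v : ℕ
  hv : 2 ≤ v
  ord : orderOf a = 2 ^ v
  y2 : y * y = a ^ (2 ^ (v - 1))
  w : ℕ
  hw : Odd w
  cardT : Nat.card T = 2 ^ v * w

namespace Data

variable {G : Type*} [Group G] (D : Data G)

/-- The cyclic subgroup generated by `a` -/
def A : Subgroup G := Subgroup.zpowers D.a

lemma a_mem : D.a ∈ D.A := Subgroup.mem_zpowers _

lemma A_le : D.A ≤ D.T := (Subgroup.zpowers_le).mpr D.aT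

lemma yy_mem : D.y * D.y ∈ D.A := by
  rw [D.y2]
  exact pow_mem D.a_mem _

lemma yinv (t : G) (ht : t ∈ D.T) : D.y⁻¹ * t * D.y = t⁻¹ := by
  have h := D.inv t⁻¹ (D.T.inv_mem ht)
  rw [inv_inv] at h
  calc D.y⁻¹ * t * D.y = D.y⁻¹ * (D.y * t⁻¹ * D.y⁻¹) * D.y := by rw [h]
    _ = t⁻¹ := by group

/-- The generalised quaternion subgroup. -/
def S : Subgroup G where
  carrier := {g | g ∈ D.A ∨ D.y⁻¹ * g ∈ D.A}
  mul_mem' := by
    rintro g g' (hg | hg) (hg' | hg')
    · exact Or.inl (D.A.mul_mem hg hg')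
    · right
      have e : D.y⁻¹ * (g * g') = (D.y⁻¹ * g * D.y) * (D.y⁻¹ * g') := by group
      rw [e, D.yinv g (D.A_le hg)]
      exact D.A.mul_mem (D.A.inv_mem hg) hg'
    · right
      have e : D.y⁻¹ * (g * g') = (D.y⁻¹ * g) * g' := by group
      rw [e]
      exact D.A.mul_mem hg hg'
    · left
      set s := D.y⁻¹ * g with hs
      have e : g * g' = (D.y * D.y) * (D.y⁻¹ * s * D.y) * (D.y⁻¹ * g') := by
        rw [hs]
        group
      rw [e, D.yinv s (D.A_le hg)]
      exact D.A.mul_mem (D.A.mul_mem D.yy_mem (D.A.inv_mem hg)) hg'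
  one_mem' := Or.inl D.A.one_mem
  inv_mem' := by
    rintro g (hg | hg)
    · exact Or.inl (D.A.inv_mem hg)
    · right
      set s := D.y⁻¹ * g with hs
      have e : D.y⁻¹ * g⁻¹ = (D.y⁻¹ * s⁻¹ * D.y) * (D.y * D.y)⁻¹ := by
        rw [hs]
        group
      rw [e, D.yinv s⁻¹ (D.T.inv_mem (D.A_le hg)), inv_inv]
      exact D.A.mul_mem hg (D.A.inv_mem D.yy_mem)

lemma mem_S_iff (g : G) : g ∈ D.S ↔ g ∈ D.A ∨ D.y⁻¹ * g ∈ D.A := Iff.rfl

lemma A_le_S : D.A ≤ D.S := fun _ h => Or.inl h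

lemma y_mem : D.y ∈ D.S := Or.inr (by simpa using D.A.one_mem)

lemma a_mem_S : D.a ∈ D.S := Or.inl D.a_mem

/-- The order of `S`. -/
lemma card_S [Finite G] : Nat.card D.S = 2 * 2 ^ D.v := by
  have hA : Nat.card D.A = 2 ^ D.v := by
    rw [A, Nat.card_zpowers, D.ord]
  have hset : (D.S : Set G) = (D.A : Set G) ∪ (fun s => D.y * s) '' (D.A : Set G) := by
    ext g
    simp only [SetLike.mem_coe, Set.mem_union, Set.mem_image]
    rw [mem_S_iff]
    constructor
    · rintro (h | h)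
      · exact Or.inl h
      · exact Or.inr ⟨_, h, by group⟩
    · rintro (h | ⟨s, hs, rfl⟩)
      · exact Or.inl h
      · right
        simpa using hs
  have hdisj : Disjoint (D.A : Set G) ((fun s => D.y * s) '' (D.A : Set G)) := by
    rw [Set.disjoint_left]
    rintro g hg ⟨s, hs, rfl⟩
    apply D.yT
    have h1 : D.y = (D.y * s) * s⁻¹ := by group
    rw [h1]
    exact D.T.mul_mem (D.A_le hg) (D.T.inv_mem (D.A_le hs))
  have e1 : Nat.card D.S = (D.S : Set G).ncard := Nat.card_coe_set_eq _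
  have e2 : ((D.A : Set G)).ncard = 2 ^ D.v := by
    rw [← hA]
    exact (Nat.card_coe_set_eq _).symm
  rw [e1, hset, Set.ncard_union_eq hdisj (Set.toFinite _) (Set.toFinite _),
    Set.ncard_image_of_injective _ (mul_right_injective _), e2]
  ring

/-- In the cyclic `T` the elements of order dividing `2 ^ v` are the powers of `a`. -/
lemma mem_A_of_pow [Finite G] {g : G} (hg : g ∈ D.T) (h : g ^ (2 ^ D.v) = 1) : g ∈ D.A := by
  classical
  letI : IsCyclic D.T := D.cyc
  letI : Fintype D.T := Fintype.ofFinite _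
  have hpos : 0 < 2 ^ D.v := by positivity
  have h1 := IsCyclic.card_pow_eq_one_le (α := D.T) hpos
  let a' : D.T := ⟨D.a, D.aT⟩
  have hord : orderOf a' = 2 ^ D.v := by
    rw [← D.ord]
    exact Subgroup.orderOf_mk _ _
  set M : Finset D.T := Finset.univ.filter (fun x : D.T => x ^ (2 ^ D.v) = 1) with hM
  let B : Finset D.T := (Finset.range (2 ^ D.v)).image (fun k => a' ^ k)
  have hB : B ⊆ M := by
    intro x hx
    obtain ⟨k, -, rfl⟩ := Finset.mem_image.mp hx
    rw [hM, Finset.mem_filter]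
    refine ⟨Finset.mem_univ _, ?_⟩
    rw [← pow_mul, mul_comm, pow_mul, ← hord, pow_orderOf_eq_one, one_pow]
  have hBc : B.card = 2 ^ D.v := by
    rw [Finset.card_image_of_injOn, Finset.card_range]
    intro k hk l hl hkl
    rw [← hord] at hk hl
    exact pow_injOn_Iio_orderOf (Set.mem_Iio.mpr (Finset.mem_range.mp (Finset.mem_coe.mp hk)))
      (Set.mem_Iio.mpr (Finset.mem_range.mp (Finset.mem_coe.mp hl))) hkl
  have hEq : B = M := Finset.eq_of_subset_of_card_le hB (by rw [hBc]; exact h1)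
  have hgM : (⟨g, hg⟩ : D.T) ∈ M := by
    rw [hM, Finset.mem_filter]
    refine ⟨Finset.mem_univ _, ?_⟩
    apply Subtype.ext
    simpa using h
  rw [← hEq] at hgM
  obtain ⟨k, -, hk⟩ := Finset.mem_image.mp hgM
  have hk' : D.a ^ k = g := congrArg Subtype.val hk
  rw [← hk']
  exact pow_mem D.a_mem _

/-- The normaliser of `S` inside `T` is `A`. -/
lemma mem_A_of_norm [Finite G] {g : G} (hg : g ∈ D.T) (hN : g ∈ Subgroup.normalizer (D.S : Set G)) : g ∈ D.A := by
  rw [Subgroup.mem_normalizer_iff] at hN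
  have h1 : g * D.y * g⁻¹ ∈ D.S := (hN D.y).mp D.y_mem
  have e : g * D.y * g⁻¹ = (g * g) * D.y := by
    have h2 := D.inv g⁻¹ (D.T.inv_mem hg)
    rw [inv_inv] at h2
    calc g * D.y * g⁻¹ = g * (D.y * g⁻¹ * D.y⁻¹) * D.y := by group
      _ = (g * g) * D.y := by rw [h2, mul_assoc]
  rw [e] at h1
  have h2 : g * g ∈ D.S := by
    have := D.S.mul_mem h1 (D.S.inv_mem D.y_mem)
    simpa using this
  have hggT : g * g ∈ D.T := D.T.mul_mem hg hg
  have h3 : g * g ∈ D.A := by
    rcases h2 with h2 | h2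
    · exact h2
    · exfalso
      apply D.yT
      have h5 := D.T.mul_mem hggT (D.T.inv_mem (D.A_le h2))
      have e5 : g * g * (D.y⁻¹ * (g * g))⁻¹ = D.y := by group
      rwa [e5] at h5
  apply D.mem_A_of_pow hg
  have h4 : (g * g) ^ (2 ^ D.v) = 1 := by
    have h6 : orderOf (g * g) ∣ 2 ^ D.v := by
      rw [← D.ord, ← Nat.card_zpowers D.a]
      exact Subgroup.orderOf_dvd_natCard _ h3
    exact orderOf_dvd_iff_pow_eq_one.mp h6
  have h5 : g ^ (2 ^ (D.v + 1)) = 1 := by
    rw [pow_succ, mul_comm, pow_mul, pow_two]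
    exact h4
  have h6 : g ^ (2 ^ D.v * D.w) = 1 := by
    have := Subgroup.orderOf_dvd_natCard _ hg
    rw [D.cardT] at this
    exact orderOf_dvd_iff_pow_eq_one.mp this
  have h7 : orderOf g ∣ Nat.gcd (2 ^ (D.v + 1)) (2 ^ D.v * D.w) :=
    Nat.dvd_gcd (orderOf_dvd_of_pow_eq_one h5) (orderOf_dvd_of_pow_eq_one h6)
  have h8 : Nat.gcd (2 ^ (D.v + 1)) (2 ^ D.v * D.w) = 2 ^ D.v := by
    rw [pow_succ, Nat.gcd_mul_left]
    have : Nat.gcd 2 D.w = 1 := (Nat.coprime_two_left.mpr D.hw)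
    rw [this, mul_one]
  rw [h8] at h7
  exact orderOf_dvd_iff_pow_eq_one.mp h7

lemma a_sq_ne : D.a * D.a ≠ 1 := by
  intro h
  have h1 : D.a ^ 2 = 1 := by rw [pow_two]; exact h
  have h2 := Nat.le_of_dvd (by norm_num) (orderOf_dvd_of_pow_eq_one h1)
  rw [D.ord] at h2
  have h3 : 2 ^ 2 ≤ 2 ^ D.v := Nat.pow_le_pow_right (by norm_num) D.hv
  omega

/-- The centraliser of `S`. -/
lemma centralizer_S {g : G} (hg : g ∈ Subgroup.centralizer ((D.S : Subgroup G) : Set G)) : g * g = 1 := by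
  rw [Subgroup.mem_centralizer_iff] at hg
  have h1 : g ∈ Subgroup.centralizer ({D.a} : Set G) := by
    rw [Subgroup.mem_centralizer_iff]
    rintro _ rfl
    exact hg _ D.a_mem_S
  rw [D.cent D.a D.aT D.a_sq_ne] at h1
  have h2 := D.inv g h1
  have h3 := hg _ D.y_mem
  have h4 : D.y * g * D.y⁻¹ = g := by
    rw [h3]
    group
  rw [h4] at h2
  calc g * g = g⁻¹ * g := by
        nth_rw 1 [h2]
    _ = 1 := inv_mul_cancel g

lemma S_le_norm : D.S ≤ Subgroup.normalizer ((D.S : Subgroup G) : Set G) := Subgroup.le_normalizer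

/-- For `v ≥ 3` the subgroup `S` is self-normalising. -/
lemma normalizer_S_of_three [Finite G] (h3 : 3 ≤ D.v) :
    Subgroup.normalizer ((D.S : Subgroup G) : Set G) = D.S := by
  apply le_antisymm _ D.S_le_norm
  intro g hg
  have hg' := (Subgroup.mem_normalizer_iff.mp hg)
  set d := g * D.a * g⁻¹ with hd
  have hdS : d ∈ D.S := (hg' D.a).mp D.a_mem_S
  have hord : orderOf d = 2 ^ D.v := by
    rw [hd, ← D.ord]
    have := MulAut.conj_apply g D.a
    rw [← this]
    exact orderOf_injective (MulAut.conj g).toMonoidHom (MulAut.conj g).injective _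
  have h8 : 8 ≤ 2 ^ D.v := by
    calc 8 = 2 ^ 3 := by norm_num
      _ ≤ 2 ^ D.v := Nat.pow_le_pow_right (by norm_num) h3
  have hdA : d ∈ D.A := by
    rcases hdS with h | h
    · exact h
    · exfalso
      set s := D.y⁻¹ * d with hs
      have e : d * d = D.y * D.y := by
        have e1 : d * d = (D.y * D.y) * (D.y⁻¹ * s * D.y) * s := by
          rw [hs]
          group
        rw [e1, D.yinv s (D.A_le h)]
        group
      have h4 : d ^ 4 = 1 := by
        have e3 : (4 : ℕ) = 2 * 2 := rfl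
        rw [e3, pow_mul, pow_two d, e, pow_two, D.y2, ← pow_add, ← two_mul, ← pow_succ']
        have e4 : D.v - 1 + 1 = D.v := by omega
        rw [e4, ← D.ord]
        exact pow_orderOf_eq_one _
      have h5 := Nat.le_of_dvd (by norm_num) (orderOf_dvd_of_pow_eq_one h4)
      rw [hord] at h5
      omega
  have hdT : d ∈ D.T := D.A_le hdA
  have hdd : d * d ≠ 1 := by
    intro h
    have h1 : d ^ 2 = 1 := by rw [pow_two]; exact h
    have h2 := Nat.le_of_dvd (by norm_num) (orderOf_dvd_of_pow_eq_one h1)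
    rw [hord] at h2
    omega
  have hCd := D.cent d hdT hdd
  have hCa := D.cent D.a D.aT D.a_sq_ne
  have hgN : g ∈ Subgroup.normalizer (D.T : Set G) := by
    rw [Subgroup.mem_normalizer_iff]
    intro t
    rw [← hCa]
    conv_rhs => rw [hCa, ← hCd]
    simp only [Subgroup.mem_centralizer_iff, Set.mem_singleton_iff, forall_eq]
    constructor
    · intro h
      rw [hd]
      calc g * D.a * g⁻¹ * (g * t * g⁻¹) = g * (D.a * t) * g⁻¹ := by group
        _ = g * (t * D.a) * g⁻¹ := by rw [h]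
        _ = _ := by group
    · intro h
      rw [hd] at h
      have h5 : g * (D.a * t) * g⁻¹ = g * (t * D.a) * g⁻¹ := by
        calc g * (D.a * t) * g⁻¹ = g * D.a * g⁻¹ * (g * t * g⁻¹) := by group
          _ = g * t * g⁻¹ * (g * D.a * g⁻¹) := h
          _ = _ := by group
      simpa using h5
  rcases D.norm g hgN with h | h
  · exact D.A_le_S (D.mem_A_of_norm h hg)
  · have h5 : D.y⁻¹ * g ∈ Subgroup.normalizer ((D.S : Subgroup G) : Set G) :=
      Subgroup.mul_mem _ (D.S_le_norm (D.S.inv_mem D.y_mem)) hg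
    exact Or.inr (D.mem_A_of_norm h h5)

/-- The case `v = 2`. -/
lemma card_normalizer_S_of_two [Finite G] (h2 : D.v = 2) (ζ : G) (h1 : ζ * D.a * ζ⁻¹ = D.y)
    (h1' : ζ * D.y * ζ⁻¹ = D.a * D.y) (hζ3 : ζ ^ 3 = 1) (hζ1 : ζ ≠ 1) :
    Nat.card (Subgroup.normalizer ((D.S : Subgroup G) : Set G)) = 3 * Nat.card D.S := by
  classical
  have hcardS : Nat.card D.S = 8 := by
    rw [card_S, h2]
    norm_num
  have hord : orderOf D.a = 4 := by
    rw [D.ord, h2]; norm_num
  have hyy : D.y * D.y = D.a ^ 2 := by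
    have := D.y2
    rw [h2] at this
    simpa using this
  -- `ζ` normalises
  have hζN : ζ ∈ Subgroup.normalizer ((D.S : Subgroup G) : Set G) := by
    apply Subgroup.mem_normalizer_fintype
    have hK : D.S ≤ D.S.comap (MulAut.conj ζ).toMonoidHom := by
      have hA : D.A ≤ D.S.comap (MulAut.conj ζ).toMonoidHom := by
        rw [A, Subgroup.zpowers_le, Subgroup.mem_comap]
        simp only [MulEquiv.coe_toMonoidHom, MulAut.conj_apply]
        rw [h1]
        exact D.y_mem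
      intro s hs
      rcases hs with hs | hs
      · exact hA hs
      · have e : s = D.y * (D.y⁻¹ * s) := by group
        rw [e]
        apply Subgroup.mul_mem _ _ (hA hs)
        rw [Subgroup.mem_comap]
        simp only [MulEquiv.coe_toMonoidHom, MulAut.conj_apply]
        rw [h1']
        exact D.S.mul_mem D.a_mem_S D.y_mem
    intro n hn
    have := hK hn
    rw [Subgroup.mem_comap] at this
    simpa [MulAut.conj_apply] using this
  have hζord : orderOf ζ = 3 := orderOf_eq_prime hζ3 hζ1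
  have hdvd3 : 3 ∣ Nat.card (Subgroup.normalizer ((D.S : Subgroup G) : Set G)) := by
    rw [← hζord]
    exact Subgroup.orderOf_dvd_natCard _ hζN
  have hdvd8 : 8 ∣ Nat.card (Subgroup.normalizer ((D.S : Subgroup G) : Set G)) := by
    rw [← hcardS]
    exact Subgroup.card_dvd_of_le D.S_le_norm
  have hdvd24 : 24 ∣ Nat.card (Subgroup.normalizer ((D.S : Subgroup G) : Set G)) := by
    have : Nat.Coprime 3 8 := by norm_num
    exact this.mul_dvd_of_dvd_of_dvd hdvd3 hdvd8
  -- inverse relations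
  have haa : D.a ^ 4 = 1 := by
    rw [← hord]
    exact pow_orderOf_eq_one _
  have hA4 : ∀ x ∈ D.A, ∃ k : ℕ, k < 4 ∧ x = D.a ^ k := by
    intro x hx
    have h5 : x ∈ Submonoid.powers D.a := mem_powers_iff_mem_zpowers.mpr hx
    obtain ⟨n, rfl⟩ := Submonoid.mem_powers_iff _ _ |>.mp h5
    refine ⟨n % 4, Nat.mod_lt _ (by norm_num), ?_⟩
    rw [← hord, pow_mod_orderOf]
  have ha_ne : ∀ g : G, g * D.a * g⁻¹ ≠ 1 := by
    intro g h
    have h5 : D.a = 1 := by
      have e : D.a = g⁻¹ * (g * D.a * g⁻¹) * g := by group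
      rw [e, h]
      group
    rw [h5] at hord
    simp at hord
  have ha2_ne : ∀ g : G, g * D.a * g⁻¹ ≠ D.a ^ 2 := by
    intro g h
    have h5 : (g * D.a * g⁻¹) ^ 2 = 1 := by
      rw [h, ← pow_mul]
      exact haa
    have h6 : D.a ^ 2 = 1 := by
      have : (g * D.a * g⁻¹) ^ 2 = g * D.a ^ 2 * g⁻¹ := by
        rw [conj_pow]
      rw [this] at h5
      have e : D.a ^ 2 = g⁻¹ * (g * D.a ^ 2 * g⁻¹) * g := by group
      rw [e, h5]
      group
    apply D.a_sq_ne
    rw [← pow_two]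
    exact h6
  have hinv1 : D.y * D.a * D.y⁻¹ = D.a⁻¹ := D.inv _ D.aT
  -- the covering
  have hcover : ∀ g ∈ Subgroup.normalizer ((D.S : Subgroup G) : Set G),
      g ∈ (D.S : Set G) ∪ ((fun s => ζ * s) '' (D.S : Set G) ∪ (fun s => ζ * ζ * s) '' (D.S : Set G)) := by
    intro g hg
    have hg' := (Subgroup.mem_normalizer_iff.mp hg)
    have hx : g * D.a * g⁻¹ ∈ D.S := (hg' D.a).mp D.a_mem_S
    have hred : ∀ s : G, s ∈ Subgroup.normalizer ((D.S : Subgroup G) : Set G) → s * D.a * s⁻¹ = g * D.a * g⁻¹ →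
        s⁻¹ * g ∈ D.A := by
      intro s hs e
      apply D.mem_A_of_norm
      · rw [← D.cent D.a D.aT D.a_sq_ne, Subgroup.mem_centralizer_iff]
        rintro _ rfl
        have e2 : g⁻¹ * s * D.a * (g⁻¹ * s)⁻¹ = D.a := by
          calc g⁻¹ * s * D.a * (g⁻¹ * s)⁻¹ = g⁻¹ * (s * D.a * s⁻¹) * g := by group
            _ = D.a := by rw [e]; group
        have e3 : (s⁻¹ * g) * D.a * (s⁻¹ * g)⁻¹ = D.a := by
          calc (s⁻¹ * g) * D.a * (s⁻¹ * g)⁻¹ = s⁻¹ * (g * D.a * g⁻¹) * s := by group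
            _ = s⁻¹ * (s * D.a * s⁻¹) * s := by rw [e]
            _ = D.a := by group
        rw [mul_inv_eq_iff_eq_mul] at e3
        exact e3.symm
      · exact Subgroup.mul_mem _ (Subgroup.inv_mem _ hs) hg
    have hζ1N := hζN
    have hζ2N : ζ * ζ ∈ Subgroup.normalizer ((D.S : Subgroup G) : Set G) := Subgroup.mul_mem _ hζN hζN
    have hyN : D.y ∈ Subgroup.normalizer ((D.S : Subgroup G) : Set G) := D.S_le_norm D.y_mem
    have hcase0 : ∀ s, s ∈ D.S → s⁻¹ * g ∈ D.A → g ∈ (D.S : Set G) ∪ ((fun s => ζ * s) '' (D.S : Set G) ∪ (fun s => ζ * ζ * s) '' (D.S : Set G)) := by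
      intro s hs h
      left
      have e : g = s * (s⁻¹ * g) := by group
      rw [e]
      exact D.S.mul_mem hs (D.A_le_S h)
    have hcase1 : ∀ s, s ∈ D.S → (ζ * s)⁻¹ * g ∈ D.A → g ∈ (D.S : Set G) ∪ ((fun s => ζ * s) '' (D.S : Set G) ∪ (fun s => ζ * ζ * s) '' (D.S : Set G)) := by
      intro s hs h
      right; left
      refine ⟨s * ((ζ * s)⁻¹ * g), D.S.mul_mem hs (D.A_le_S h), by group⟩
    have hcase2 : ∀ s, s ∈ D.S → (ζ * ζ * s)⁻¹ * g ∈ D.A → g ∈ (D.S : Set G) ∪ ((fun s => ζ * s) '' (D.S : Set G) ∪ (fun s => ζ * ζ * s) '' (D.S : Set G)) := by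
      intro s hs h
      right; right
      refine ⟨s * ((ζ * ζ * s)⁻¹ * g), D.S.mul_mem hs (D.A_le_S h), by group⟩
    have hya : D.y * D.a⁻¹ * D.y⁻¹ = D.a := by
      have := D.inv D.a⁻¹ (D.T.inv_mem D.aT)
      rwa [inv_inv] at this
    have hainv : D.a⁻¹ = D.a ^ 3 := by
      rw [inv_eq_iff_mul_eq_one, ← pow_succ']
      exact haa
    have hsq2 : (ζ * ζ) * D.a * (ζ * ζ)⁻¹ = D.a * D.y := by
      have e5 : (ζ * ζ) * D.a * (ζ * ζ)⁻¹ = ζ * (ζ * D.a * ζ⁻¹) * ζ⁻¹ := by group
      rw [e5, h1, h1']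
    have hζinv : ζ * D.a⁻¹ * ζ⁻¹ = D.y⁻¹ := by
      have e6 : ζ * D.a⁻¹ * ζ⁻¹ = (ζ * D.a * ζ⁻¹)⁻¹ := by group
      rw [e6, h1]
    rcases hx with hx | hx
    · obtain ⟨k, hk, e⟩ := hA4 _ hx
      interval_cases k
      · exact absurd (by simpa using e) (ha_ne g)
      · exact hcase0 1 D.S.one_mem (by
          have := hred 1 (Subgroup.one_mem _) (by simpa using e.symm)
          simpa using this)
      · exact absurd e (ha2_ne g)
      · refine hcase0 D.y D.y_mem (hred D.y hyN ?_)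
        rw [hinv1, e, hainv]
    · obtain ⟨k, hk, e⟩ := hA4 _ hx
      have e' : g * D.a * g⁻¹ = D.y * D.a ^ k := by
        rw [← e]
        group
      interval_cases k
      · -- `x = y`
        refine hcase1 1 D.S.one_mem ?_
        rw [mul_one]
        refine hred ζ hζN ?_
        rw [h1, e']
        simp
      · -- `x = y a`
        refine hcase2 D.y D.y_mem ?_
        refine hred _ (Subgroup.mul_mem _ hζ2N hyN) ?_
        have e5 : (ζ * ζ * D.y) * D.a * (ζ * ζ * D.y)⁻¹ = ((ζ * ζ) * (D.y * D.a * D.y⁻¹) * (ζ * ζ)⁻¹) := by group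
        have e6 : (ζ * ζ) * D.a⁻¹ * (ζ * ζ)⁻¹ = ((ζ * ζ) * D.a * (ζ * ζ)⁻¹)⁻¹ := conj_inv.symm
        rw [e5, hinv1, e6, hsq2, e', pow_one]
        -- `(a y)⁻¹ = y a`
        rw [inv_eq_iff_mul_eq_one]
        have e7 : D.a * D.y * (D.y * D.a) = D.a * (D.y * D.y) * D.a := by group
        rw [e7, hyy, ← pow_succ', ← pow_succ]
        exact haa
      · -- `x = y a²`
        refine hcase1 D.y D.y_mem ?_
        refine hred _ (Subgroup.mul_mem _ hζN hyN) ?_
        have e5 : (ζ * D.y) * D.a * (ζ * D.y)⁻¹ = ζ * (D.y * D.a * D.y⁻¹) * ζ⁻¹ := by group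
        rw [e5, hinv1, hζinv, e']
        rw [inv_eq_iff_mul_eq_one]
        have e7 : D.y * (D.y * D.a ^ 2) = (D.y * D.y) * D.a ^ 2 := by group
        rw [e7, hyy, ← pow_add]
        exact haa
      · -- `x = y a³`
        refine hcase2 1 D.S.one_mem ?_
        rw [mul_one]
        refine hred _ hζ2N ?_
        rw [hsq2, e', ← hainv]
        calc D.a * D.y = (D.y * D.a⁻¹ * D.y⁻¹) * D.y := by rw [hya]
          _ = D.y * D.a⁻¹ := by group
  -- counting
  have hle : Nat.card (Subgroup.normalizer ((D.S : Subgroup G) : Set G)) ≤ 24 := by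
    have e1 : Nat.card (Subgroup.normalizer ((D.S : Subgroup G) : Set G)) =
      ((Subgroup.normalizer ((D.S : Subgroup G) : Set G) : Subgroup G) : Set G).ncard := Nat.card_coe_set_eq _
    have e2 : ((D.S : Subgroup G) : Set G).ncard = 8 := by
      rw [← hcardS]
      exact (Nat.card_coe_set_eq _).symm
    rw [e1]
    calc _ ≤ ((D.S : Set G) ∪ ((fun s => ζ * s) '' (D.S : Set G) ∪ (fun s => ζ * ζ * s) '' (D.S : Set G))).ncard :=
          Set.ncard_le_ncard (fun g hg => hcover g hg) (Set.toFinite _)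
      _ ≤ (D.S : Set G).ncard + ((fun s => ζ * s) '' (D.S : Set G) ∪ (fun s => ζ * ζ * s) '' (D.S : Set G)).ncard :=
          Set.ncard_union_le _ _
      _ ≤ (D.S : Set G).ncard + (((fun s => ζ * s) '' (D.S : Set G)).ncard + ((fun s => ζ * ζ * s) '' (D.S : Set G)).ncard) :=
          Nat.add_le_add_left (Set.ncard_union_le _ _) _
      _ = 24 := by
          rw [Set.ncard_image_of_injective _ (mul_right_injective _),
            Set.ncard_image_of_injective _ (mul_right_injective _), e2]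
  have hpos : 0 < Nat.card (Subgroup.normalizer ((D.S : Subgroup G) : Set G)) := Nat.card_pos
  have heq : Nat.card (Subgroup.normalizer ((D.S : Subgroup G) : Set G)) = 24 :=
    le_antisymm hle (Nat.le_of_dvd hpos hdvd24)
  rw [heq, hcardS]

/-- The Sylow subgroup. -/
theorem exists_conj [Finite G] (hcard : (Nat.card G).factorization 2 = D.v + 1) (P : Sylow 2 G) :
    ∃ c : G, (P : Subgroup G).map (MulAut.conj c).toMonoidHom = D.S := by
  have : Fact (Nat.Prime 2) := ⟨Nat.prime_two⟩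
  let S' : Sylow 2 G := Sylow.ofCard D.S (by
    rw [card_S, hcard, pow_succ]
    ring)
  obtain ⟨c, hc⟩ := MulAction.exists_smul_eq G P S'
  refine ⟨c, ?_⟩
  have h3 : ((c • P : Sylow 2 G) : Subgroup G) = (P : Subgroup G).map (MulAut.conj c).toMonoidHom := rfl
  rw [← h3, hc]
  rfl

/-- Consequences for an arbitrary Sylow subgroup. -/
theorem sylow_centralizer [Finite G] (hcard : (Nat.card G).factorization 2 = D.v + 1) (P : Sylow 2 G) {g : G}
    (hg : g ∈ Subgroup.centralizer ((P : Subgroup G) : Set G)) : g * g = 1 := by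
  obtain ⟨c, hc⟩ := D.exists_conj hcard P
  have h1 := centralizer_map_conj c (P : Subgroup G)
  have h2 : c * g * c⁻¹ ∈ Subgroup.centralizer ((D.S : Subgroup G) : Set G) := by
    rw [← hc, h1]
    exact ⟨g, hg, rfl⟩
  have h3 := D.centralizer_S h2
  have h4 : c * (g * g) * c⁻¹ = 1 := by
    rw [← h3]
    group
  have e : g * g = c⁻¹ * (c * (g * g) * c⁻¹) * c := by group
  rw [e, h4]
  group

theorem sylow_normalizer_of_three [Finite G] (hcard : (Nat.card G).factorization 2 = D.v + 1) (P : Sylow 2 G)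
    (h3 : 3 ≤ D.v) : Subgroup.normalizer ((P : Subgroup G) : Set G) = (P : Subgroup G) := by
  obtain ⟨c, hc⟩ := D.exists_conj hcard P
  have h1 := Subgroup.map_equiv_normalizer_eq (P : Subgroup G) (MulAut.conj c)
  rw [hc, D.normalizer_S_of_three h3, ← hc] at h1
  exact Subgroup.map_injective (MulAut.conj c).injective h1

theorem sylow_normalizer_of_two [Finite G] (hcard : (Nat.card G).factorization 2 = D.v + 1) (P : Sylow 2 G)
    (h2 : D.v = 2) (ζ : G) (h1 : ζ * D.a * ζ⁻¹ = D.y)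
    (h1' : ζ * D.y * ζ⁻¹ = D.a * D.y) (hζ3 : ζ ^ 3 = 1) (hζ1 : ζ ≠ 1) :
    Nat.card (Subgroup.normalizer ((P : Subgroup G) : Set G)) = 3 * Nat.card (P : Subgroup G) := by
  obtain ⟨c, hc⟩ := D.exists_conj hcard P
  have h4 := Subgroup.map_equiv_normalizer_eq (P : Subgroup G) (MulAut.conj c)
  rw [hc] at h4
  have h5 := D.card_normalizer_S_of_two h2 ζ h1 h1' hζ3 hζ1
  rw [← h4, card_map_conj, ← hc, card_map_conj] at h5
  exact h5

end Data

end Cfsg.Agent.Lib.SLn.QuatSylow
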