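import Mathlib

set_option autoImplicit false

/-!
Counting conjugacy classes through centralisers, and groups with a cyclic subgroup of index two inverted by the
other coset.
-/

namespace Cfsg.Agent.Lib.SLn.DicCount

variable {H : Type*} [Group H]

/-- The class number times the order is the sum of the centraliser orders. -/
lemma card_conjClasses_mul [Fintype H] :
    Nat.card (ConjClasses H) * Nat.card H = ∑ x : H, Nat.card {y : H // Commute x y} := by
  classical
  rw [← card_comm_eq_card_conjClasses_mul_card]
  have e : {p : H × H // Commute p.1 p.2} ≃ Σ x : H, {y : H // Commute x y} :=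
    { toFun := fun p => ⟨p.1.1, ⟨p.1.2, p.2⟩⟩
      invFun := fun p => ⟨(p.1, p.2.1), p.2.2⟩
      left_inv := fun _ => rfl
      right_inv := fun _ => rfl }
  rw [Nat.card_congr e, Nat.card_sigma]

/-- A group with a cyclic subgroup of index two of even order, inverted by the other coset. -/
theorem card_conjClasses_of_inverting [Finite H] (T : Subgroup H) (hT : IsCyclic T) (hidx : T.index = 2)
    (hinv : ∀ g, g ∉ T → ∀ t ∈ T, g * t * g⁻¹ = t⁻¹) (n : ℕ) (hn : Nat.card T = 2 * n) (hpos : 0 < n) :
    Nat.card (ConjClasses H) = n + 3 := by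
  classical
  have : Fintype H := Fintype.ofFinite H
  have hcardH : Nat.card H = 4 * n := by
    have := Subgroup.card_mul_index T
    rw [hn, hidx] at this
    rw [← this]
    ring
  letI hTc : CommGroup T := IsCyclic.commGroup
  have hcomm : ∀ a ∈ T, ∀ b ∈ T, a * b = b * a := by
    intro a ha b hb
    have h2 : (⟨a, ha⟩ * ⟨b, hb⟩ : T) = ⟨b, hb⟩ * ⟨a, ha⟩ := mul_comm _ _
    exact congrArg Subtype.val h2
  -- the involutions of `T`
  set I : Set H := {t | t ∈ T ∧ t * t = 1} with hI
  have hIcard : I.ncard = 2 := by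
    have h1 := IsCyclic.card_powMonoidHom_ker (G := T) 2
    rw [hn, show Nat.gcd (2 * n) 2 = 2 from Nat.gcd_eq_right (dvd_mul_right _ _)] at h1
    rw [← h1, ← Nat.card_coe_set_eq]
    apply Nat.card_congr
    refine ⟨fun t => ⟨⟨t.1, t.2.1⟩, ?_⟩, fun t => ⟨t.1.1, t.1.2, ?_⟩, fun _ => rfl, fun _ => rfl⟩
    · rw [MonoidHom.mem_ker, powMonoidHom_apply]
      apply Subtype.ext
      show (t.1 : H) ^ 2 = 1
      rw [pow_two]
      exact t.2.2
    · have h2 := t.2
      rw [MonoidHom.mem_ker, powMonoidHom_apply] at h2
      have h3 := congrArg Subtype.val h2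
      have h4 : (t.1.1) ^ 2 = 1 := h3
      rwa [pow_two] at h4
  have hc1 : ∀ x, x ∈ T → x * x = 1 → Nat.card {y : H // Commute x y} = 4 * n := by
    intro x hx hxx
    rw [← hcardH]
    apply Nat.card_congr
    refine Equiv.subtypeUnivEquiv fun y => ?_
    by_cases hy : y ∈ T
    · exact hcomm x hx y hy
    · have h1 := hinv y hy x hx
      have h2 : x⁻¹ = x := inv_eq_of_mul_eq_one_left hxx
      rw [h2] at h1
      have : y * x = x * y := by
        rw [mul_inv_eq_iff_eq_mul] at h1
        exact h1
      exact this.symm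
  have hc2 : ∀ x, x ∈ T → x * x ≠ 1 → Nat.card {y : H // Commute x y} = 2 * n := by
    intro x hx hxx
    rw [← hn]
    apply Nat.card_congr
    refine Equiv.subtypeEquivRight fun y => ?_
    constructor
    · intro hc
      by_contra hy
      have h1 := hinv y hy x hx
      apply hxx
      have h2 : y * x * y⁻¹ = x := by
        rw [mul_inv_eq_iff_eq_mul]
        exact hc.symm
      rw [h2] at h1
      calc x * x = x * x⁻¹ := by rw [← h1]
        _ = 1 := mul_inv_cancel x
    · intro hy
      exact hcomm x hx y hy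
  have hc3 : ∀ x, x ∉ T → Nat.card {y : H // Commute x y} = 4 := by
    intro x hx
    have hset : {y : H | Commute x y} = I ∪ (fun s => x * s) '' I := by
      ext y
      simp only [Set.mem_ofPred_eq, Set.mem_union, Set.mem_image]
      constructor
      · intro hc
        by_cases hy : y ∈ T
        · left
          refine ⟨hy, ?_⟩
          have h1 := hinv x hx y hy
          have h2 : x * y * x⁻¹ = y := by
            rw [mul_inv_eq_iff_eq_mul]
            exact hc.eq
          rw [h2] at h1
          calc y * y = y⁻¹ * y := by rw [← h1]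
            _ = 1 := inv_mul_cancel y
        · right
          have hs : x⁻¹ * y ∈ T := by
            by_contra hs
            -- the product of two elements outside a subgroup of index two lies inside
            have h3 := (Subgroup.mul_mem_iff_of_index_two hidx (a := x⁻¹) (b := y)).mpr
            have h4 : x⁻¹ ∉ T := fun h => hx (by simpa using T.inv_mem h)
            exact hs (h3 (by tauto))
          refine ⟨x⁻¹ * y, ⟨hs, ?_⟩, by group⟩
          have h1 := hinv x hx _ hs
          have h2 : x * (x⁻¹ * y) * x⁻¹ = x⁻¹ * y := by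
            have hc' : x * y = y * x := hc.eq
            calc x * (x⁻¹ * y) * x⁻¹ = x⁻¹ * (x * y) * x⁻¹ := by group
              _ = x⁻¹ * (y * x) * x⁻¹ := by rw [hc']
              _ = x⁻¹ * y := by group
          rw [h2] at h1
          calc x⁻¹ * y * (x⁻¹ * y) = (x⁻¹ * y)⁻¹ * (x⁻¹ * y) := by rw [← h1]
            _ = 1 := inv_mul_cancel _
      · rintro (⟨hy, hyy⟩ | ⟨s, ⟨hs, hss⟩, rfl⟩)
        · have h1 := hinv x hx y hy
          have h2 : y⁻¹ = y := inv_eq_of_mul_eq_one_left hyy
          rw [h2, mul_inv_eq_iff_eq_mul] at h1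
          exact h1
        · have h1 := hinv x hx s hs
          have h2 : s⁻¹ = s := inv_eq_of_mul_eq_one_left hss
          rw [h2, mul_inv_eq_iff_eq_mul] at h1
          show x * (x * s) = (x * s) * x
          rw [mul_assoc x s x, h1]
    have hdisj : Disjoint I ((fun s => x * s) '' I) := by
      rw [Set.disjoint_left]
      rintro y ⟨hy, -⟩ ⟨s, ⟨hs, -⟩, rfl⟩
      exact hx (by simpa using T.mul_mem hy (T.inv_mem hs))
    have hcard : ((fun s => x * s) '' I).ncard = 2 := by
      rw [Set.ncard_image_of_injective _ (mul_right_injective x), hIcard]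
    have e1 : Nat.card {y : H // Commute x y} = ({y : H | Commute x y}).ncard := Nat.card_coe_set_eq _
    rw [e1, hset, Set.ncard_union_eq hdisj (Set.toFinite _) (Set.toFinite _), hIcard, hcard]
  have hsum : ∑ x : H, Nat.card {y : H // Commute x y} = 4 * n * (n + 3) := by
    have h1 : ∀ x : H, Nat.card {y : H // Commute x y} =
        if x ∈ T then (if x * x = 1 then 4 * n else 2 * n) else 4 := by
      intro x
      split_ifs with h h'
      · exact hc1 x h h'
      · exact hc2 x h h'
      · exact hc3 x h
    simp_rw [h1]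
    rw [Finset.sum_ite, Finset.sum_ite, Finset.sum_const, Finset.sum_const, Finset.sum_const]
    simp only [smul_eq_mul, Finset.filter_filter]
    have hA : (Finset.univ.filter fun x : H => x ∈ T ∧ x * x = 1).card = 2 := by
      rw [← hIcard, ← Set.ncard_coe_finset]
      congr 1
      ext x
      simp [hI]
    have hTc : (Finset.univ.filter fun x : H => x ∈ T).card = 2 * n := by
      rw [← hn, Nat.card_eq_fintype_card, Fintype.card_subtype]
    have hB : (Finset.univ.filter fun x : H => x ∈ T ∧ ¬ x * x = 1).card = 2 * n - 2 := by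
      have := Finset.card_filter_add_card_filter_not (s := Finset.univ.filter fun x : H => x ∈ T) (fun x => x * x = 1)
      rw [Finset.filter_filter, Finset.filter_filter, hA, hTc] at this
      omega
    have hD : (Finset.univ.filter fun x : H => x ∉ T).card = 2 * n := by
      have := Finset.card_filter_add_card_filter_not (s := (Finset.univ : Finset H)) (fun x => x ∈ T)
      rw [hTc, Finset.card_univ, ← Nat.card_eq_fintype_card, hcardH] at this
      omega
    rw [hA, hB, hD]
    obtain ⟨r, rfl⟩ : ∃ r, n = r + 1 := ⟨n - 1, by omega⟩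
    have e : 2 * (r + 1) - 2 = 2 * r := by omega
    rw [e]
    ring
  have hk := card_conjClasses_mul (H := H)
  rw [hsum, hcardH] at hk
  have h4 : 0 < 4 * n := by omega
  have : Nat.card (ConjClasses H) * (4 * n) = (n + 3) * (4 * n) := by rw [hk]; ring
  exact Nat.eq_of_mul_eq_mul_right h4 this

/-- A cyclic subgroup inverted by `w`, such that the normaliser consists of `T` and `w T`: the normaliser
has twice the order of `T` and its class number is known. -/
theorem normalizer_data {G : Type*} [Group G] [Finite G] (T : Subgroup G) (hT : IsCyclic T) (w : G)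
    (hw : ∀ t ∈ T, w * t * w⁻¹ = t⁻¹) (hwT : w ∉ T) (hw2 : w * w ∈ T)
    (hN : ∀ g ∈ Subgroup.normalizer (T : Set G), g ∈ T ∨ w⁻¹ * g ∈ T) :
    Nat.card (Subgroup.normalizer (T : Set G)) = 2 * Nat.card T ∧
      (∀ g ∈ Subgroup.normalizer (T : Set G), g ∉ T → ∀ t ∈ T, g * t * g⁻¹ = t⁻¹) ∧
      (∀ n, Nat.card T = 2 * n → 0 < n → Nat.card (ConjClasses (Subgroup.normalizer (T : Set G))) = n + 3) ∧
      (∀ g ∈ Subgroup.normalizer (T : Set G), g ∉ T → g * g = w * w) := by
  classical
  have hcomm : ∀ a ∈ T, ∀ b ∈ T, a * b = b * a := by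
    letI hTc : CommGroup T := IsCyclic.commGroup
    intro a ha b hb
    have h2 : (⟨a, ha⟩ * ⟨b, hb⟩ : T) = ⟨b, hb⟩ * ⟨a, ha⟩ := mul_comm _ _
    exact congrArg Subtype.val h2
  have hle : T ≤ Subgroup.normalizer (T : Set G) := by
    intro t ht
    rw [Subgroup.mem_normalizer_iff]
    intro n
    constructor
    · intro hn
      have : t * n * t⁻¹ = n := by
        rw [hcomm t ht n hn]
        group
      rw [this]
      exact hn
    · intro hn
      have h1 : t⁻¹ * (t * n * t⁻¹) * t = n := by group
      rw [← h1]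
      exact T.mul_mem (T.mul_mem (T.inv_mem ht) hn) ht
  have hwN : w ∈ Subgroup.normalizer (T : Set G) := by
    rw [Subgroup.mem_normalizer_iff]
    intro n
    constructor
    · intro hn
      rw [hw n hn]
      exact T.inv_mem hn
    · intro hn
      -- `w⁻¹` also inverts
      have h1 : w⁻¹ * (w * n * w⁻¹) * w = n := by group
      have h2 : ∀ t ∈ T, w⁻¹ * t * w = t⁻¹ := by
        intro t ht
        have h3 := hw t⁻¹ (T.inv_mem ht)
        rw [inv_inv] at h3
        calc w⁻¹ * t * w = w⁻¹ * (w * t⁻¹ * w⁻¹) * w := by rw [h3]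
          _ = t⁻¹ := by group
      rw [← h1, h2 _ hn]
      exact T.inv_mem hn
  have hinv' : ∀ g ∈ Subgroup.normalizer (T : Set G), g ∉ T → ∀ t ∈ T, g * t * g⁻¹ = t⁻¹ := by
    intro g hg hgT t ht
    have hs := (hN g hg).resolve_left hgT
    have hg' : g = w * (w⁻¹ * g) := by group
    set s := w⁻¹ * g with hsdef
    rw [hg']
    have h1 : s * t * s⁻¹ = t := by
      rw [hcomm s hs t ht]
      group
    calc w * s * t * (w * s)⁻¹ = w * (s * t * s⁻¹) * w⁻¹ := by group
      _ = t⁻¹ := by rw [h1, hw t ht]
  set N := Subgroup.normalizer (T : Set G) with hNdef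
  set T' : Subgroup N := T.subgroupOf N with hT'
  have hidx : T'.index = 2 := by
    rw [Subgroup.index_eq_two_iff_exists_notMem_and]
    refine ⟨⟨w, hwN⟩, ?_, ?_⟩
    · rw [hT', Subgroup.mem_subgroupOf]
      exact hwT
    rintro ⟨b, hb⟩
    rw [hT', Subgroup.mem_subgroupOf, Subgroup.mem_subgroupOf]
    show (b * w ∈ T) ∨ (b ∈ T)
    by_cases hbT : b ∈ T
    · exact Or.inr hbT
    · left
      have hs := (hN b hb).resolve_left hbT
      have h3 : b * w = (w * (w⁻¹ * b) * w⁻¹) * (w * w) := by group
      rw [h3, hw _ hs]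
      exact T.mul_mem (T.inv_mem hs) hw2
  have hcT' : Nat.card T' = Nat.card T := Nat.card_congr (Subgroup.subgroupOfEquivOfLe hle).toEquiv
  have hcyc : IsCyclic T' := isCyclic_of_surjective (Subgroup.subgroupOfEquivOfLe hle).symm.toMonoidHom
    (MulEquiv.surjective _)
  refine ⟨?_, hinv', ?_, ?_⟩
  · have := Subgroup.card_mul_index T'
    rw [hcT', hidx] at this
    rw [← this, mul_comm]
  · intro n hn hpos
    refine card_conjClasses_of_inverting T' hcyc hidx ?_ n (by rw [hcT', hn]) hpos
    rintro ⟨g, hg⟩ hgT ⟨t, htN⟩ ht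
    rw [hT', Subgroup.mem_subgroupOf] at hgT ht
    apply Subtype.ext
    exact hinv' g hg hgT t ht
  · intro g hg hgT
    have hs := (hN g hg).resolve_left hgT
    set s := w⁻¹ * g with hsdef
    have hg' : g = w * s := by rw [hsdef]; group
    rw [hg']
    have h1 : w * s * (w * s) = (w * s * w⁻¹) * (w * w) * s := by group
    rw [h1, hw s hs, hcomm _ (T.mul_mem (T.inv_mem hs) hw2) s hs]
    group

end Cfsg.Agent.Lib.SLn.DicCount
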