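import Cfsg.Agent.Lib.SLn.DicCount

set_option autoImplicit false

/-!
Sylow subgroups lying in a cyclic subgroup `T` with a dihedral-type normaliser.
-/

namespace Cfsg.Agent.Lib.SLn.SylowTorus

open scoped Pointwise

variable {G : Type*} [Group G]

/-- The centraliser of a conjugate. -/
lemma centralizer_map_conj (c : G) (A : Subgroup G) :
    Subgroup.centralizer ((A.map (MulAut.conj c).toMonoidHom : Subgroup G) : Set G) =
      (Subgroup.centralizer (A : Set G)).map (MulAut.conj c).toMonoidHom := by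
  ext g
  simp only [Subgroup.mem_centralizer_iff, Subgroup.mem_map, SetLike.mem_coe]
  constructor
  · intro h
    refine ⟨c⁻¹ * g * c, ?_, ?_⟩
    · intro a ha
      have h1 := h (c * a * c⁻¹) ⟨a, ha, by simp [MulAut.conj_apply]⟩
      have : a * (c⁻¹ * g * c) = c⁻¹ * ((c * a * c⁻¹) * g) * c := by group
      rw [this, h1]
      group
    · simp [MulAut.conj_apply]
      group
  · rintro ⟨x, hx, rfl⟩ _ ⟨a, ha, rfl⟩
    have := hx a ha
    simp only [MulEquiv.coe_toMonoidHom, MulAut.conj_apply]
    calc c * a * c⁻¹ * (c * x * c⁻¹) = c * (a * x) * c⁻¹ := by group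
      _ = c * (x * a) * c⁻¹ := by rw [this]
      _ = _ := by group

lemma card_map_conj (c : G) (A : Subgroup G) :
    Nat.card (A.map (MulAut.conj c).toMonoidHom) = Nat.card A :=
  Subgroup.card_map_of_injective (MulAut.conj c).injective

lemma isCyclic_map_conj (c : G) (A : Subgroup G) (h : IsCyclic A) :
    IsCyclic (A.map (MulAut.conj c).toMonoidHom) :=
  isCyclic_of_surjective ((MulAut.conj c).subgroupMap A).toMonoidHom ((MulAut.conj c).subgroupMap A).surjective

/-- A subgroup of `T` whose centraliser is `T`. -/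
theorem centralizer_normalizer [Finite G] (T : Subgroup G) (hT : IsCyclic T) (w : G)
    (hw : ∀ t ∈ T, w * t * w⁻¹ = t⁻¹) (hwT : w ∉ T) (hw2 : w * w ∈ T)
    (hN : ∀ g ∈ Subgroup.normalizer (T : Set G), g ∈ T ∨ w⁻¹ * g ∈ T)
    (A : Subgroup G) (hA : A ≤ T) (d : G) (hdA : d ∈ A) (hd : Subgroup.centralizer ({d} : Set G) = T) :
    Subgroup.centralizer (A : Set G) = T ∧ Nat.card (Subgroup.normalizer (A : Set G)) = 2 * Nat.card T := by
  obtain ⟨h1, h2, -, -⟩ := DicCount.normalizer_data T hT w hw hwT hw2 hN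
  have hcomm : ∀ a ∈ T, ∀ b ∈ T, a * b = b * a := by
    letI hTc : CommGroup T := IsCyclic.commGroup
    intro a ha b hb
    have h2 : (⟨a, ha⟩ * ⟨b, hb⟩ : T) = ⟨b, hb⟩ * ⟨a, ha⟩ := mul_comm _ _
    exact congrArg Subtype.val h2
  have hC : Subgroup.centralizer (A : Set G) = T := by
    apply le_antisymm
    · rw [← hd]
      apply Subgroup.centralizer_le
      rintro _ rfl
      exact hdA
    · intro t ht
      rw [Subgroup.mem_centralizer_iff]
      intro a ha
      exact hcomm a (hA ha) t ht
  refine ⟨hC, ?_⟩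
  have hNN : Subgroup.normalizer (A : Set G) = Subgroup.normalizer (T : Set G) := by
    apply le_antisymm
    · intro g hg
      rw [Subgroup.mem_normalizer_iff] at hg ⊢
      have key : ∀ g' : G, (∀ h, h ∈ A ↔ g' * h * g'⁻¹ ∈ A) → ∀ t ∈ T, g' * t * g'⁻¹ ∈ T := by
        intro g' hg' t ht
        rw [← hC, Subgroup.mem_centralizer_iff]
        intro p hp
        have h3 : g'⁻¹ * p * g' ∈ A := by
          rw [hg']
          have e : g' * (g'⁻¹ * p * g') * g'⁻¹ = p := by group
          rw [e]
          exact hp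
        have h4 := hcomm _ (hA h3) t ht
        calc p * (g' * t * g'⁻¹) = g' * ((g'⁻¹ * p * g') * t) * g'⁻¹ := by group
          _ = g' * (t * (g'⁻¹ * p * g')) * g'⁻¹ := by rw [h4]
          _ = _ := by group
      intro t
      constructor
      · intro ht
        exact key g hg t ht
      · intro ht
        have hg' : ∀ h, h ∈ A ↔ g⁻¹ * h * g⁻¹⁻¹ ∈ A := by
          intro h
          rw [hg (g⁻¹ * h * g⁻¹⁻¹)]
          have e : g * (g⁻¹ * h * g⁻¹⁻¹) * g⁻¹ = h := by group
          rw [e]
        have := key g⁻¹ hg' _ ht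
        have e : g⁻¹ * (g * t * g⁻¹) * g⁻¹⁻¹ = t := by group
        rwa [e] at this
    · intro g hg
      have hg' := hg
      rw [Subgroup.mem_normalizer_iff] at hg' ⊢
      by_cases hgT : g ∈ T
      · intro h
        constructor
        · intro hh
          have := hcomm g hgT h (hA hh)
          rw [this]
          simpa using hh
        · intro hh
          have h5 : h ∈ T := (hg' h).mpr (hA hh)
          have := hcomm g hgT h h5
          rw [this] at hh
          simpa using hh
      · have hinv := h2 g hg hgT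
        intro h
        constructor
        · intro hh
          rw [hinv h (hA hh)]
          exact A.inv_mem hh
        · intro hh
          have h5 : h ∈ T := (hg' h).mpr (hA hh)
          rw [hinv h h5] at hh
          simpa using hh
  rw [hNN, h1]

/-- A Sylow subgroup of a group with `p` not dividing the index of `T` is conjugate into `T`. -/
theorem exists_conj_le [Finite G] (T : Subgroup G) (ℓ : ℕ) [Fact ℓ.Prime] (hidx : ¬ ℓ ∣ T.index)
    (P : Sylow ℓ G) : ∃ c : G, ((P : Subgroup G).map (MulAut.conj c).toMonoidHom) ≤ T := by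
  obtain ⟨Q⟩ : Nonempty (Sylow ℓ T) := inferInstance
  have hQ : IsPGroup ℓ ((Q : Subgroup T).map T.subtype) := Q.2.map T.subtype
  obtain ⟨P', hP'⟩ := hQ.exists_le_sylow
  have hcard : Nat.card ((Q : Subgroup T).map T.subtype) = Nat.card P' := by
    have e1 : Nat.card ((Q : Subgroup T).map T.subtype) = Nat.card Q :=
      Subgroup.card_map_of_injective T.subtype_injective
    rw [e1, Sylow.card_eq_multiplicity, Sylow.card_eq_multiplicity]
    have h1 : Nat.card G = Nat.card T * T.index := (Subgroup.card_mul_index T).symm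
    have hpos : Nat.card T ≠ 0 := Nat.card_pos.ne'
    have hpos2 : T.index ≠ 0 := Subgroup.index_ne_zero_of_finite
    rw [h1, Nat.factorization_mul hpos hpos2]
    simp [Nat.factorization_eq_zero_of_not_dvd hidx]
  have heq : (Q : Subgroup T).map T.subtype = P' := Subgroup.eq_of_le_of_card_ge hP' (le_of_eq hcard.symm)
  obtain ⟨c, hc⟩ := MulAction.exists_smul_eq G P P'
  refine ⟨c, ?_⟩
  have h3 : ((c • P : Sylow ℓ G) : Subgroup G) = (P : Subgroup G).map (MulAut.conj c).toMonoidHom := rfl
  rw [← h3, hc, ← heq]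
  exact Subgroup.map_subtype_le _

/-- The data for a Sylow subgroup. -/
theorem sylow_data [Finite G] (T : Subgroup G) (hT : IsCyclic T) (w : G)
    (hw : ∀ t ∈ T, w * t * w⁻¹ = t⁻¹) (hwT : w ∉ T) (hw2 : w * w ∈ T)
    (hN : ∀ g ∈ Subgroup.normalizer (T : Set G), g ∈ T ∨ w⁻¹ * g ∈ T)
    (ℓ : ℕ) [Fact ℓ.Prime] (hidx : ¬ ℓ ∣ T.index) (hdvd : ℓ ∣ Nat.card T)
    (hd : ∀ d ∈ T, orderOf d = ℓ → Subgroup.centralizer ({d} : Set G) = T)
    (P : Sylow ℓ G) :
    Nat.card (Subgroup.centralizer ((P : Subgroup G) : Set G)) = Nat.card T ∧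
      IsCyclic (Subgroup.centralizer ((P : Subgroup G) : Set G)) ∧
      Nat.card (Subgroup.normalizer ((P : Subgroup G) : Set G)) = 2 * Nat.card T := by
  obtain ⟨c, hc⟩ := exists_conj_le T ℓ hidx P
  set A := (P : Subgroup G).map (MulAut.conj c).toMonoidHom with hAdef
  have hdvdG : ℓ ∣ Nat.card G := hdvd.trans (Subgroup.card_subgroup_dvd_card T)
  have hdvdP : ℓ ∣ Nat.card (P : Subgroup G) := P.dvd_card_of_dvd_card hdvdG
  have hdvdA : ℓ ∣ Nat.card A := by
    rw [hAdef, card_map_conj]
    exact hdvdP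
  obtain ⟨x, hx⟩ := exists_prime_orderOf_dvd_card' (G := A) ℓ hdvdA
  have hdA : (x : G) ∈ A := x.2
  have hord : orderOf (x : G) = ℓ := by
    rw [← hx]
    exact Subgroup.orderOf_coe x
  obtain ⟨h1, h2⟩ := centralizer_normalizer T hT w hw hwT hw2 hN A hc (x : G) hdA (hd _ (hc hdA) hord)
  have hcent := centralizer_map_conj c (P : Subgroup G)
  have hnorm := Subgroup.map_equiv_normalizer_eq (P : Subgroup G) (MulAut.conj c)
  rw [← hAdef] at hcent hnorm
  rw [h1] at hcent
  have e1 : Nat.card (Subgroup.centralizer ((P : Subgroup G) : Set G)) = Nat.card T := by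
    rw [hcent, card_map_conj]
  refine ⟨e1, ?_, ?_⟩
  · have e2 : (Subgroup.centralizer ((P : Subgroup G) : Set G)) =
        T.map (MulAut.conj c⁻¹).toMonoidHom := by
      rw [hcent]
      ext g
      constructor
      · intro h
        exact ⟨c * g * c⁻¹, ⟨g, h, rfl⟩, by simp [MulAut.conj_apply]; group⟩
      · rintro ⟨_, ⟨x, hx, rfl⟩, rfl⟩
        have e3 : (MulAut.conj c⁻¹).toMonoidHom ((MulAut.conj c).toMonoidHom x) = x := by
          simp [MulAut.conj_apply]
          group
        rw [e3]
        exact hx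
    rw [e2]
    exact isCyclic_map_conj _ _ hT
  · rw [← h2, ← hnorm, card_map_conj]

end Cfsg.Agent.Lib.SLn.SylowTorus
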